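import Groth.Agent.SpDegen.General
import Groth.Agent.SpSeqLib.SiteDerived
import Groth.Agent.CohBase.Push
import Groth.Prelude.Def_CohTop

/-!
# Degenerate Leray sequences on spaces
-/

set_option autoImplicit false
set_option linter.style.haveILetI false

universe u

open CategoryTheory CategoryTheory.Limits Opposite TopologicalSpace Abelian

noncomputable section

namespace Groth.Agent.SpDegen

open SiteBase

variable {X Y : TopCat.{u}} (f : X ⟶ Y) (F : CohTop.Ab X)

/-- Global sections. -/
abbrev secTop (X : TopCat.{u}) : CohTop.Ab X ⥤ AddCommGrpCat.{u} :=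
  evA (Opens.grothendieckTopology X) (op ⊤)

instance additive_secTop (X : TopCat.{u}) : (secTop X).Additive := evA_additive _ _

theorem nonempty_secTop_rightDerived (n : ℕ) (G : CohTop.Ab X) :
    Nonempty (CohTop.H G n ≃+ ↑(((secTop X).rightDerived n).obj G)) := by
  obtain ⟨e⟩ := SpSeqLib.nonempty_rightDerived_evA_iso (J := Opens.grothendieckTopology X) G ⊤ n
  exact ⟨(CohBase.HEquiv G n).trans e.addCommGroupIsoToAddEquiv.symm⟩

theorem isAcyclicFor_push_injective (Q : CohTop.Ab X) (hQ : Injective Q) :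
    SpSeqLib.IsAcyclicFor (secTop Y) ((CohTop.push f).obj Q) := fun p => by
  obtain ⟨e⟩ := SpSeqLib.nonempty_rightDerived_evA_iso (J := Opens.grothendieckTopology Y)
    ((CohTop.push f).obj Q) ⊤ (p + 1)
  haveI : Subsingleton (CohSite.HU ((CohTop.push f).obj Q) (p + 1) (⊤ : Opens Y)) :=
    haveI := hQ
    CohBase.push_injective_acyclic f Q ⊤ p
  exact (AddCommGrpCat.isZero_of_subsingleton _).of_iso e

instance preservesFiniteLimits_secTop : PreservesFiniteLimits (secTop Y) := by
  unfold secTop evA
  infer_instance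

theorem nonempty_leray_acyclic_base
    (h : ∀ p q : ℕ, Subsingleton (CohTop.H ((CohTop.Rpush f q).obj F) (p + 1))) (q : ℕ) :
    Nonempty (CohTop.H F q ≃+ ((CohTop.Rpush f q).obj F).obj.obj (op ⊤)) := by
  obtain ⟨a⟩ := nonempty_secTop_rightDerived (X := X) q F
  obtain ⟨b⟩ := nonempty_rightDerived_comp_iso_of_acyclic (CohTop.push f) (secTop Y)
    (isAcyclicFor_push_injective f) F (fun q p => by
      obtain ⟨e⟩ := nonempty_secTop_rightDerived (X := Y) (p + 1) (((CohTop.push f).rightDerived q).obj F)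
      haveI : Subsingleton (CohTop.H (((CohTop.push f).rightDerived q).obj F) (p + 1)) := h p q
      haveI := e.symm.toEquiv.subsingleton
      exact AddCommGrpCat.isZero_of_subsingleton _) q
  obtain ⟨c⟩ := SpSeqLib.nonempty_rightDerived_congr
    (show secTop X ≅ CohTop.push f ⋙ secTop Y from Iso.refl _) q F
  exact ⟨(a.trans c.addCommGroupIsoToAddEquiv).trans b.addCommGroupIsoToAddEquiv⟩

theorem nonempty_leray_acyclic_push
    (h : ∀ q : ℕ, IsZero ((CohTop.Rpush f (q + 1)).obj F)) (p : ℕ) :
    Nonempty (CohTop.H F p ≃+ CohTop.H ((CohTop.push f).obj F) p) := by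
  haveI : PreservesFiniteLimits (CohTop.push f) :=
    haveI : PreservesLimitsOfSize.{0, 0} (CohTop.push f) :=
      (TopCat.Sheaf.pullbackPushforwardAdjunction AddCommGrpCat.{u} f).rightAdjoint_preservesLimits
    inferInstance
  obtain ⟨a⟩ := nonempty_secTop_rightDerived (X := X) p F
  obtain ⟨b⟩ := nonempty_rightDerived_comp_iso_of_vanishing (CohTop.push f) (secTop Y)
    (isAcyclicFor_push_injective f) F h p
  obtain ⟨c⟩ := SpSeqLib.nonempty_rightDerived_congr
    (show secTop X ≅ CohTop.push f ⋙ secTop Y from Iso.refl _) p F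
  obtain ⟨d⟩ := nonempty_secTop_rightDerived (X := Y) p ((CohTop.push f).obj F)
  exact ⟨((a.trans c.addCommGroupIsoToAddEquiv).trans b.addCommGroupIsoToAddEquiv).trans d.symm⟩

end Groth.Agent.SpDegen
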