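import Groth.Agent.SpSeqLib.Grothendieck

/-!
# Degeneration of truncation sequences
-/

set_option autoImplicit false
set_option linter.style.haveILetI false

universe v v' u u' v₁ v₂ v₃ u₁ u₂ u₃

open CategoryTheory Limits Pretriangulated Triangulated

noncomputable section

namespace Groth.Agent.SpDegen

section Trunc

variable {D : Type u} [Category.{v} D] [Preadditive D] [HasZeroObject D] [HasShift D ℤ]
  [∀ (n : ℤ), (shiftFunctor D n).Additive] [Pretriangulated D] [IsTriangulated D]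
  {A : Type u'} [Category.{v'} A] [Abelian A] {t : TStructure D} {F : D ⥤ A} [F.IsHomological]
  [F.ShiftSequence ℤ]

/-- Vanishing on the pieces gives vanishing on `τ_{<k}`. -/
theorem isZero_shift_truncLT (X : D) [t.IsGE X 0] (m : ℤ) : ∀ (k : ℕ),
    (∀ q : ℕ, q < k → IsZero ((F.shift m).obj (SpSeqLib.omegaSucc t X q))) →
    IsZero ((F.shift m).obj ((t.truncLT (k : ℤ)).obj X))
  | 0, _ => (F.shift m).map_isZero (t.isZero_truncLT_obj_of_isGE 0 X)
  | k + 1, h => by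
    let Y := (t.truncLT ((k + 1 : ℕ) : ℤ)).obj X
    haveI := t.isIso_truncLT_map_truncLTι_app (k : ℤ) ((k + 1 : ℕ) : ℤ) (by omega) X
    have h₁ : IsZero ((F.shift m).obj ((t.truncLT (k : ℤ)).obj Y)) :=
      (isZero_shift_truncLT X m k fun q hq => h q (Nat.lt_succ_of_lt hq)).of_iso
        ((F.shift m).mapIso (asIso ((t.truncLT (k : ℤ)).map ((t.truncLTι _).app X))))
    have h₂ : IsZero ((F.shift m).obj ((t.truncGE (k : ℤ)).obj Y)) := by
      have := h k (Nat.lt_succ_self k)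
      exact this
    exact (F.homologySequence_exact₂ _ (t.triangleLTGE_distinguished (k : ℤ) Y) m).isZero_of_both_zeros
      (h₁.eq_of_src _ _) (h₂.eq_of_tgt _ _)

/-- When only the piece in degree `n` contributes, the value in degree `n` is that of the piece. -/
theorem nonempty_shift_iso_omegaSucc (hge : SpSeqLib.VanishesBelow t F) (X : D) [t.IsGE X 0] (n : ℕ)
    (h₀ : ∀ q : ℕ, q < n → IsZero ((F.shift (n : ℤ)).obj (SpSeqLib.omegaSucc t X q)))
    (h₁ : ∀ q : ℕ, q < n → IsZero ((F.shift ((n + 1 : ℕ) : ℤ)).obj (SpSeqLib.omegaSucc t X q))) :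
    Nonempty ((F.shift (n : ℤ)).obj X ≅ (F.shift (n : ℤ)).obj (SpSeqLib.omegaSucc t X n)) := by
  let Y := (t.truncLT ((n : ℤ) + 1)).obj X
  haveI : IsIso ((F.shift (n : ℤ)).map ((t.truncLTι ((n : ℤ) + 1)).app X)) := by
    have hT := t.triangleLTGE_distinguished ((n : ℤ) + 1) X
    have hge' : t.IsGE ((t.truncGE ((n : ℤ) + 1)).obj X) ((n : ℤ) + 1) := inferInstanceAs
      (t.IsGE ((t.triangleLTGE ((n : ℤ) + 1)).obj X).obj₃ ((n : ℤ) + 1))
    haveI : Epi ((F.shift (n : ℤ)).map ((t.triangleLTGE ((n : ℤ) + 1)).obj X).mor₁) :=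
      (F.homologySequence_exact₂ _ hT (n : ℤ)).epi_f
        ((hge _ ((n : ℤ) + 1) n hge' (by lia)).eq_of_tgt _ _)
    haveI : Mono ((F.shift (n : ℤ)).map ((t.triangleLTGE ((n : ℤ) + 1)).obj X).mor₁) :=
      (F.homologySequence_exact₁ _ hT ((n : ℤ) - 1) n (by lia)).mono_g
        ((hge _ ((n : ℤ) + 1) ((n : ℤ) - 1) hge' (by lia)).eq_of_src _ _)
    exact isIso_of_mono_of_epi ((F.shift (n : ℤ)).map ((t.triangleLTGE ((n : ℤ) + 1)).obj X).mor₁)
  have hπ : IsIso ((F.shift (n : ℤ)).map ((t.truncGEπ (n : ℤ)).app Y)) := by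
    have hT := t.triangleLTGE_distinguished (n : ℤ) Y
    have hi := t.isIso_truncLT_map_truncLTι_app (n : ℤ) ((n : ℤ) + 1) (by omega) X
    have hz : ∀ m : ℤ, IsZero ((F.shift m).obj ((t.truncLT (n : ℤ)).obj X)) →
        IsZero ((F.shift m).obj ((t.triangleLTGE (n : ℤ)).obj Y).obj₁) := fun m h =>
      h.of_iso ((F.shift m).mapIso (@asIso _ _ _ _ _ hi))
    haveI : Mono ((F.shift (n : ℤ)).map ((t.triangleLTGE (n : ℤ)).obj Y).mor₂) :=
      (F.homologySequence_exact₂ _ hT (n : ℤ)).mono_g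
        ((hz _ (isZero_shift_truncLT X _ n h₀)).eq_of_src _ _)
    haveI : Epi ((F.shift (n : ℤ)).map ((t.triangleLTGE (n : ℤ)).obj Y).mor₂) :=
      (F.homologySequence_exact₃ _ hT (n : ℤ) ((n + 1 : ℕ) : ℤ) (by push_cast; rfl)).epi_f
        ((hz _ (isZero_shift_truncLT X _ n h₁)).eq_of_tgt _ _)
    exact isIso_of_mono_of_epi ((F.shift (n : ℤ)).map ((t.triangleLTGE (n : ℤ)).obj Y).mor₂)
  exact ⟨(asIso ((F.shift (n : ℤ)).map ((t.truncLTι ((n : ℤ) + 1)).app X))).symm ≪≫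
    @asIso _ _ _ _ _ hπ⟩

end Trunc

attribute [local instance] HasDerivedCategory.standard

variable {A : Type u₁} [Category.{v₁} A] [Abelian A] {A' : Type u₂} [Category.{v₂} A'] [Abelian A']
  {B : Type u₃} [Category.{v₃} B] [Abelian B] [HasInjectiveResolutions A] [EnoughInjectives A']
  (T : A ⥤ A') [T.Additive] (S : A' ⥤ B) [S.Additive] [PreservesFiniteLimits S]

/-- If all `Rᵍ T M` are acyclic for `S`, then `Rⁿ (T ⋙ S) M` is `S (Rⁿ T M)`. -/
theorem nonempty_rightDerived_comp_iso_of_acyclic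
    (hT : ∀ Q : A, Injective Q → SpSeqLib.IsAcyclicFor S (T.obj Q)) (M : A)
    (h : ∀ q : ℕ, SpSeqLib.IsAcyclicFor S ((T.rightDerived q).obj M)) (n : ℕ) :
    Nonempty (((T ⋙ S).rightDerived n).obj M ≅ S.obj ((T.rightDerived n).obj M)) := by
  let R := injectiveResolution M
  let X := SpSeqLib.mapResolution T R
  haveI := SpSeqLib.isGE_mapResolution T R
  haveI : DerivedCategory.Plus.TStructure.t.IsGE X 0 := SpSeqLib.isGE_mapResolution T R
  have key : ∀ q m : ℕ, q ≤ m → Nonempty (((SpSeqLib.rG S).shift (m : ℤ)).obj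
      (SpSeqLib.omegaSucc DerivedCategory.Plus.TStructure.t X (q : ℤ)) ≅
        (S.rightDerived (m - q)).obj ((T.rightDerived q).obj M)) := fun q m hqm => by
    obtain ⟨i⟩ := SpSeqLib.nonempty_omegaSucc_iso X (q : ℤ)
    obtain ⟨j⟩ := SpSeqLib.nonempty_rG_singleShift_iso S
      ((DerivedCategory.Plus.homologyFunctor A' (q : ℤ)).obj X) (q : ℤ) ((m - q : ℕ) : ℤ) (m : ℤ) (by omega)
    obtain ⟨k⟩ := SpSeqLib.nonempty_rG_single_iso S
      ((DerivedCategory.Plus.homologyFunctor A' (q : ℤ)).obj X) (m - q)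
    obtain ⟨l⟩ := SpSeqLib.nonempty_homology_mapResolution T R q
    exact ⟨((SpSeqLib.rG S).shift (m : ℤ)).mapIso i ≪≫ j ≪≫ k ≪≫ (S.rightDerived (m - q)).mapIso l⟩
  have hz : ∀ q m : ℕ, q < m → IsZero (((SpSeqLib.rG S).shift (m : ℤ)).obj
      (SpSeqLib.omegaSucc DerivedCategory.Plus.TStructure.t X (q : ℤ))) := fun q m hqm => by
    obtain ⟨e⟩ := key q m hqm.le
    obtain ⟨d, hd⟩ : ∃ d, m - q = d + 1 := ⟨m - q - 1, by omega⟩
    exact ((h q d).of_iso (eqToIso (by rw [hd]))).of_iso e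
  obtain ⟨a⟩ := SpSeqLib.nonempty_rG_mapResolution T S hT R n
  obtain ⟨b⟩ := nonempty_shift_iso_omegaSucc (SpSeqLib.vanishesBelow_rG S) X n
    (fun q hq => hz q n hq) (fun q hq => hz q (n + 1) (by omega))
  obtain ⟨c⟩ := key n n le_rfl
  exact ⟨a.symm ≪≫ b ≪≫ c ≪≫ eqToIso (by rw [Nat.sub_self]) ≪≫ (S.rightDerivedZeroIsoSelf).app _⟩

/-- If the higher `Rᵍ T M` vanish, then `Rⁿ (T ⋙ S) M` is `Rⁿ S (T M)`. -/
theorem nonempty_rightDerived_comp_iso_of_vanishing [PreservesFiniteLimits T]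
    (hT : ∀ Q : A, Injective Q → SpSeqLib.IsAcyclicFor S (T.obj Q)) (M : A)
    (h : ∀ q : ℕ, IsZero ((T.rightDerived (q + 1)).obj M)) (n : ℕ) :
    Nonempty (((T ⋙ S).rightDerived n).obj M ≅ (S.rightDerived n).obj (T.obj M)) := by
  let R := injectiveResolution M
  let X := SpSeqLib.mapResolution T R
  haveI := SpSeqLib.isGE_mapResolution T R
  obtain ⟨a⟩ := SpSeqLib.nonempty_rG_mapResolution T S hT R n
  obtain ⟨l⟩ := SpSeqLib.nonempty_homology_mapResolution T R 0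
  haveI : (DerivedCategory.Plus.ι.obj X).IsGE 0 :=
    (DerivedCategory.Plus.isGE_ι_obj_iff _ _).2 inferInstance
  haveI : (DerivedCategory.Plus.ι.obj X).IsLE 0 := (DerivedCategory.isLE_iff _ _).2 fun i hi => by
    obtain ⟨q, rfl⟩ : ∃ q : ℕ, i = ((q + 1 : ℕ) : ℤ) := ⟨(i - 1).toNat, by omega⟩
    exact (h q).of_iso (SpSeqLib.nonempty_homology_mapResolution T R (q + 1)).some
  obtain ⟨Y, ⟨e⟩⟩ :=
    DerivedCategory.exists_iso_singleFunctor_obj_of_isGE_of_isLE (DerivedCategory.Plus.ι.obj X) 0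
  let eY : Y ≅ T.obj M :=
    ((DerivedCategory.singleFunctorCompHomologyFunctorIso A' 0).app Y).symm ≪≫
      (DerivedCategory.homologyFunctor A' 0).mapIso e.symm ≪≫ l ≪≫ T.rightDerivedZeroIsoSelf.app M
  let e' : X ≅ (DerivedCategory.Plus.singleFunctor A' 0).obj (T.obj M) :=
    DerivedCategory.Plus.ι.preimageIso (e ≪≫ (DerivedCategory.singleFunctor A' 0).mapIso eY)
  obtain ⟨k⟩ := SpSeqLib.nonempty_rG_single_iso S (T.obj M) n
  exact ⟨a.symm ≪≫ ((SpSeqLib.rG S).shift (n : ℤ)).mapIso e' ≪≫ k⟩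

end Groth.Agent.SpDegen
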